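import Groth.Agent.H45.KFlat.Colimit
import Mathlib.Algebra.Homology.HomologySequenceLemmas
import Mathlib.Algebra.Homology.GrothendieckAbelian
import Mathlib.CategoryTheory.Limits.Connected

/-!
# A colimit of quasi-isomorphisms towards the canonical truncations is a quasi-isomorphism
-/

open CategoryTheory Limits

namespace Groth.Agent.H45

universe v' u'

variable {𝒜 : Type u'} [Category.{v'} 𝒜] [Abelian 𝒜] {ι : Type*} {c : ComplexShape ι}

open HomologicalComplex

/-- In a short exact sequence of complexes, if the left term is acyclic, the epimorphism is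
a quasi-isomorphism. -/
lemma quasiIso_g_of_shortExact_of_acyclic {S : ShortComplex (HomologicalComplex 𝒜 c)}
    (hS : S.ShortExact) (h : S.X₁.Acyclic) : QuasiIso S.g := by
  refine ⟨fun i => ?_⟩
  rw [quasiIsoAt_iff_isIso_homologyMap]
  have hz : ∀ j, IsZero (S.X₁.homology j) := fun j => (S.X₁.exactAt_iff_isZero_homology j).1 (h j)
  have hm : Mono (HomologicalComplex.homologyMap S.g i) :=
    (hS.homology_exact₂ i).mono_g ((hz i).eq_of_src _ _)
  have he : Epi (HomologicalComplex.homologyMap S.g i) := by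
    by_cases hi : ∃ j, c.Rel i j
    · obtain ⟨j, hij⟩ := hi
      exact (hS.homology_exact₃ i j hij).epi_f ((hz j).eq_of_tgt _ _)
    · have := hS.epi_g
      exact HomologicalComplex.epi_homologyMap_of_epi_of_not_rel S.g i (by simpa using hi)
  exact isIso_of_mono_of_epi _

/-- If `0 ⟶ N ⟶ K ⟶ G` is exact and `K ⟶ G` factors as a quasi-isomorphic epimorphism
followed by a monomorphism, then `N` is acyclic. -/
lemma acyclic_of_exact_of_fac {S : ShortComplex (HomologicalComplex 𝒜 c)} (hS : S.Exact)
    [Mono S.f] {Y : HomologicalComplex 𝒜 c} (p : S.X₂ ⟶ Y) (j : Y ⟶ S.X₃) (fac : p ≫ j = S.g)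
    [Epi p] [Mono j] (hp : QuasiIso p) : S.X₁.Acyclic := by
  have hz : S.f ≫ p = 0 := by
    rw [← cancel_mono j, Category.assoc, fac, S.zero, zero_comp]
  let S' : ShortComplex (HomologicalComplex 𝒜 c) := ShortComplex.mk S.f p hz
  let φ : S' ⟶ S :=
    { τ₁ := 𝟙 _
      τ₂ := 𝟙 _
      τ₃ := j
      comm₁₂ := by simp [S']
      comm₂₃ := by simp [S', fac] }
  have : Epi φ.τ₁ := inferInstanceAs (Epi (𝟙 _))
  have : IsIso φ.τ₂ := inferInstanceAs (IsIso (𝟙 _))
  have : Mono φ.τ₃ := inferInstanceAs (Mono j)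
  have hS' : S'.Exact := (ShortComplex.exact_iff_of_epi_of_isIso_of_mono φ).2 hS
  have hS'' : S'.ShortExact :=
    { exact := hS'
      mono_f := inferInstanceAs (Mono S.f)
      epi_g := inferInstanceAs (Epi p) }
  exact hS''.acyclic_X₁ hp

section

variable [HasColimitsOfShape ℕ 𝒜] [HasExactColimitsOfShape ℕ 𝒜]

attribute [local instance] IsFiltered.isConnected

/-- Let `D : ℕ ⥤ CochainComplex 𝒜 ℤ` be a sequence of complexes over `G` such that each map
`D.obj n ⟶ G` factors as an epimorphic quasi-isomorphism followed by a monomorphism, and such that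
in each degree, one of the maps `D.obj n ⟶ G` is an epimorphism. Then the colimit of `D` maps
quasi-isomorphically to `G`. -/
theorem quasiIso_of_isColimit_of_fac {D : ℕ ⥤ HomologicalComplex 𝒜 c} {G : HomologicalComplex 𝒜 c}
    (α : D ⟶ (Functor.const ℕ).obj G)
    (Y : ℕ → HomologicalComplex 𝒜 c) (p : ∀ n, D.obj n ⟶ Y n) (j : ∀ n, Y n ⟶ G)
    (fac : ∀ n, p n ≫ j n = α.app n) (hp : ∀ n, Epi (p n)) (hj : ∀ n, Mono (j n))
    (hp' : ∀ n, QuasiIso (p n)) (hepi : ∀ i, ∃ n, Epi ((α.app n).f i))
    (cc : Cocone D) (hcc : IsColimit cc) (f : cc.pt ⟶ G) (hf : ∀ n, cc.ι.app n ≫ f = α.app n) :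
    QuasiIso f := by
  let T : ShortComplex (ℕ ⥤ HomologicalComplex 𝒜 c) :=
    ShortComplex.mk (kernel.ι α) α (kernel.condition α)
  have hT : T.Exact := ShortComplex.exact_kernel α
  have hTm : Mono T.f := inferInstanceAs (Mono (kernel.ι α))
  -- the kernel is acyclic termwise
  have hN : ∀ n, ((kernel α).obj n).Acyclic := by
    intro n
    let Tn : ShortComplex (HomologicalComplex 𝒜 c) :=
      ShortComplex.mk ((kernel.ι α).app n) (α.app n) (by
        rw [← NatTrans.comp_app, kernel.condition, zero_app])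
    have hTn : Tn.Exact := hT.map ((evaluation ℕ _).obj n)
    have : Mono Tn.f := inferInstanceAs (Mono (((evaluation ℕ _).obj n).map T.f))
    have := hp n
    have := hj n
    exact acyclic_of_exact_of_fac (S := Tn) hTn (p n) (j n) (fac n) (hp' n)
  -- the colimit of the kernel
  let cN := colimit.cocone (kernel α)
  let hcN := colimit.isColimit (kernel α)
  let u : cN.pt ⟶ cc.pt := hcN.desc (Cocone.mk cc.pt (kernel.ι α ≫ cc.ι))
  have hu : ∀ n, cN.ι.app n ≫ u = (kernel.ι α).app n ≫ cc.ι.app n := fun n => hcN.fac _ n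
  have hf' : ∀ n, cc.ι.app n ≫ f = T.g.app n ≫ (constCocone ℕ G).ι.app n := by
    intro n
    rw [hf n]
    exact (Category.comp_id _).symm
  have hex := colim.exact_mapShortComplex (S := T) hT hcN hcc (isColimitConstCocone ℕ G)
    u f hu hf'
  have hmono : Mono u := colim.map_mono' (kernel.ι α) hcN hcc u hu
  have hac : cN.pt.Acyclic := fun i => exactAt_of_isColimit (kernel α) cN hcN i (fun n => hN n i)
  have hepif : Epi f := by
    apply HomologicalComplex.epi_of_epi_f
    intro i
    obtain ⟨n, hn⟩ := hepi i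
    have e : (cc.ι.app n).f i ≫ f.f i = (α.app n).f i := by
      rw [← HomologicalComplex.comp_f, hf n]
    exact epi_of_epi_fac e
  exact quasiIso_g_of_shortExact_of_acyclic (S := colim.mapShortComplex T hcN cc
    (constCocone ℕ G) u f hu hf') { exact := hex, mono_f := hmono, epi_g := hepif } hac

end

end Groth.Agent.H45
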