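import Mathlib.Algebra.Homology.Embedding.CochainComplex

/-!
# Complements on canonical truncations
-/

open CategoryTheory Limits

namespace Groth.Agent.H45

universe v' u'

section

variable {ι ι' : Type*} {c : ComplexShape ι} {c' : ComplexShape ι'}
  {C : Type u'} [Category.{v'} C] [HasZeroMorphisms C] [HasZeroObject C]

open HomologicalComplex

lemma isIso_πTruncGE_f (K : HomologicalComplex C c') (e : c.Embedding c') [e.IsTruncGE]
    [∀ i', K.HasHomology i'] {i : ι} {i' : ι'} (hi : e.f i = i') (hb : ¬ e.BoundaryGE i) :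
    IsIso ((K.πTruncGE e).f i') :=
  (e.isIso_liftExtend_f_iff (K.restrictionToTruncGE' e) (K.restrictionToTruncGE'_hasLift e) hi).2
    (K.isIso_restrictionToTruncGE' e i hb)

lemma isIso_ιTruncLE_f (K : HomologicalComplex C c') (e : c.Embedding c') [e.IsTruncLE]
    [∀ i', K.HasHomology i'] {i : ι} {i' : ι'} (hi : e.f i = i') (hb : ¬ e.BoundaryLE i) :
    IsIso ((K.ιTruncLE e).f i') := by
  have : IsIso ((K.op.πTruncGE e.op).f i') := isIso_πTruncGE_f K.op e.op hi (by simpa using hb)
  exact inferInstanceAs (IsIso ((K.op.πTruncGE e.op).f i').unop)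

end

section

variable {C : Type u'} [Category.{v'} C] [HasZeroMorphisms C] [HasZeroObject C]

lemma _root_.CochainComplex.isIso_ιTruncLE_f (K : CochainComplex C ℤ) [∀ i, K.HasHomology i]
    (n i : ℤ) (hi : i < n) : IsIso ((K.ιTruncLE n).f i) := by
  refine Groth.Agent.H45.isIso_ιTruncLE_f K (ComplexShape.embeddingUpIntLE n) (i := (n - i).natAbs) (by
      rw [ComplexShape.embeddingUpIntLE_f, Int.natAbs_of_nonneg (by lia), sub_sub_cancel])
    (fun h ↦ ?_)
  rw [ComplexShape.boundaryLE_embeddingUpIntLE_iff, Int.natAbs_eq_zero] at h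
  lia

end

end Groth.Agent.H45
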