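import Groth.Agent.H45.Resolution.BoundedRes
import Groth.Agent.H45.Resolution.TruncLemmas
import Groth.Agent.H45.Resolution.ColimitQuasiIso
import Mathlib.CategoryTheory.Functor.OfSequence

/-!
# The system of resolutions of the canonical truncations of a complex
-/

open CategoryTheory Limits ZeroObject HomologicalComplex

namespace Groth.Agent.H45

universe v' u'

variable {𝒜 : Type u'} [Category.{v'} 𝒜] [Abelian 𝒜]

/-- The cokernel of a split monomorphism `A ⟶ B ≅ A ⊞ Q` identifies to `Q`. -/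
noncomputable def cokernelIsoOfSplit {A B Q : 𝒜} (i : A ⟶ B) (e : B ≅ A ⊞ Q)
    (h : i ≫ e.hom = biprod.inl) : cokernel i ≅ Q :=
  cokernel.mapIso i (biprod.inl : A ⟶ A ⊞ Q) (Iso.refl A) e (by simp [h]) ≪≫
    IsColimit.coconePointUniqueUpToIso (colimit.isColimit _) (biprod.isCokernelInlCokernelFork A Q)

lemma isStrictlyLE_zero (b : ℤ) : (0 : CochainComplex 𝒜 ℤ).IsStrictlyLE b := by
  rw [CochainComplex.isStrictlyLE_iff]
  intro i _
  exact Functor.map_isZero (eval 𝒜 _ i) (isZero_zero _)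

namespace ResSystem

variable {P : 𝒜 → Prop}

/-- The state of the construction at step `n`: a resolution of `τ_{≤ n + 1} G`. -/
structure RState (P : 𝒜 → Prop) (G : CochainComplex 𝒜 ℤ) (n : ℕ) where
  /-- the resolution -/
  K : CochainComplex 𝒜 ℤ
  hK : K.IsStrictlyLE ((n : ℤ) + 1)
  /-- the quasi-isomorphism -/
  π : K ⟶ G.truncLE ((n : ℤ) + 1)
  qi : QuasiIso π
  epi : ∀ i, Epi (π.f i)
  hX : ∀ i, P (K.X i)

variable (hP : ∀ M : 𝒜, ∃ (Q : 𝒜) (q : Q ⟶ M), P Q ∧ Epi q)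
  (hZ : ∀ Z : 𝒜, IsZero Z → P Z)
  (hSum : ∀ X Y : 𝒜, P X → P Y → P (X ⊞ Y))
  (hIso : ∀ X Y : 𝒜, (X ≅ Y) → P X → P Y)
  {G : CochainComplex 𝒜 ℤ}

namespace RState

variable {n : ℕ} (s : RState P G n)

lemma isStrictlyLE_succ : s.K.IsStrictlyLE (((n + 1 : ℕ) : ℤ) + 1) :=
  have := s.hK
  s.K.isStrictlyLE_of_le ((n : ℤ) + 1) _ (by push_cast; lia)

/-- The map to the next truncation. -/
noncomputable def g : s.K ⟶ G.truncLE (((n + 1 : ℕ) : ℤ) + 1) :=
  have := s.isStrictlyLE_succ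
  inv (s.K.ιTruncLE (((n + 1 : ℕ) : ℤ) + 1)) ≫
    CochainComplex.truncLEMap (s.π ≫ G.ιTruncLE ((n : ℤ) + 1)) (((n + 1 : ℕ) : ℤ) + 1)

lemma g_ι : s.g ≫ G.ιTruncLE (((n + 1 : ℕ) : ℤ) + 1) = s.π ≫ G.ιTruncLE ((n : ℤ) + 1) := by
  have := s.isStrictlyLE_succ
  dsimp only [g]
  rw [Category.assoc, CochainComplex.ιTruncLE_naturality, IsIso.inv_hom_id_assoc]

/-- The chosen relative resolution. -/
noncomputable def R : BoundedRelRes P s.g (((n + 1 : ℕ) : ℤ) + 1) :=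
  have := s.isStrictlyLE_succ
  Classical.choice (nonempty_boundedRelRes hP hZ s.g (((n + 1 : ℕ) : ℤ) + 1))

/-- The next state. -/
noncomputable def next : RState P G (n + 1) where
  K := (s.R hP hZ).B
  hK := (s.R hP hZ).hB
  π := (s.R hP hZ).f
  qi := (s.R hP hZ).qi
  epi := (s.R hP hZ).epi
  hX i := by
    obtain ⟨Q, e, hQ, -⟩ := (s.R hP hZ).split i
    exact hIso _ _ e.symm (hSum _ _ (s.hX i) hQ)

/-- The transition map. -/
noncomputable def ι : s.K ⟶ (s.next hP hZ hSum hIso).K := (s.R hP hZ).ι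

lemma ι_π_ι : s.ι hP hZ hSum hIso ≫ (s.next hP hZ hSum hIso).π ≫
    G.ιTruncLE (((n + 1 : ℕ) : ℤ) + 1) = s.π ≫ G.ιTruncLE ((n : ℤ) + 1) := by
  rw [← s.g_ι, ← Category.assoc]
  congr 1
  exact (s.R hP hZ).fac

lemma split (i : ℤ) : ∃ (Q : 𝒜) (e : (s.next hP hZ hSum hIso).K.X i ≅ s.K.X i ⊞ Q),
    P Q ∧ (s.ι hP hZ hSum hIso).f i ≫ e.hom = biprod.inl :=
  (s.R hP hZ).split i

end RState

variable (G)

/-- The initial state. -/
noncomputable def state0 : RState P G 0 := by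
  have := isStrictlyLE_zero (𝒜 := 𝒜) (((0 : ℕ) : ℤ) + 1)
  let R : BoundedRelRes P (0 : (0 : CochainComplex 𝒜 ℤ) ⟶ G.truncLE (((0 : ℕ) : ℤ) + 1))
    (((0 : ℕ) : ℤ) + 1) := Classical.choice (nonempty_boundedRelRes hP hZ _ _)
  exact
    { K := R.B
      hK := R.hB
      π := R.f
      qi := R.qi
      epi := R.epi
      hX := fun i => by
        obtain ⟨Q, e, hQ, -⟩ := R.split i
        exact hIso _ _ e.symm (hSum _ _ (hZ _ (Functor.map_isZero (eval 𝒜 _ i) (isZero_zero _))) hQ) }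

/-- The sequence of states. -/
noncomputable def state : ∀ n : ℕ, RState P G n
  | 0 => state0 hP hZ hSum hIso G
  | n + 1 => (state n).next hP hZ hSum hIso

/-- The system of resolutions. -/
noncomputable def Kc : ℕ ⥤ CochainComplex 𝒜 ℤ :=
  Functor.ofSequence (X := fun n => (state hP hZ hSum hIso G n).K)
    (fun n => (state hP hZ hSum hIso G n).ι hP hZ hSum hIso)

lemma Kc_map_succ (n : ℕ) : (Kc hP hZ hSum hIso G).map (homOfLE (Nat.le_succ n)) =
    (state hP hZ hSum hIso G n).ι hP hZ hSum hIso :=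
  Functor.ofSequence_map_homOfLE_succ _ n

/-- The maps to the truncations. -/
noncomputable def π (n : ℕ) : (Kc hP hZ hSum hIso G).obj n ⟶ G.truncLE ((n : ℤ) + 1) :=
  (state hP hZ hSum hIso G n).π

lemma compat (n : ℕ) : (Kc hP hZ hSum hIso G).map (homOfLE (Nat.le_succ n)) ≫
    π hP hZ hSum hIso G (n + 1) ≫ G.ιTruncLE (((n + 1 : ℕ) : ℤ) + 1) =
      π hP hZ hSum hIso G n ≫ G.ιTruncLE ((n : ℤ) + 1) := by
  rw [Kc_map_succ]
  exact (state hP hZ hSum hIso G n).ι_π_ι hP hZ hSum hIso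

/-- The natural transformation to the constant functor `G`. -/
noncomputable def α : Kc hP hZ hSum hIso G ⟶ (Functor.const ℕ).obj G :=
  NatTrans.ofSequence (fun n => π hP hZ hSum hIso G n ≫ G.ιTruncLE ((n : ℤ) + 1)) (fun n => by
    dsimp only [Functor.const_obj_obj, Functor.const_obj_map]
    rw [Category.comp_id]
    exact compat hP hZ hSum hIso G n)

lemma α_app (n : ℕ) : (α hP hZ hSum hIso G).app n =
    π hP hZ hSum hIso G n ≫ G.ιTruncLE ((n : ℤ) + 1) := rfl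

lemma epi_α_app_f (i : ℤ) (n : ℕ) (hn : i < (n : ℤ) + 1) :
    Epi (((α hP hZ hSum hIso G).app n).f i) := by
  rw [α_app, HomologicalComplex.comp_f]
  have := (state hP hZ hSum hIso G n).epi i
  have : Epi ((π hP hZ hSum hIso G n).f i) := this
  have := G.isIso_ιTruncLE_f ((n : ℤ) + 1) i hn
  infer_instance

end ResSystem

open ResSystem in
/-- The system of resolutions of the canonical truncations of a complex by objects in a class `P`
(stable under finite direct sums, containing zero objects, and such that every object is a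
quotient of an object in `P`). -/
theorem exists_resolution_system {P : 𝒜 → Prop}
    (hP : ∀ M : 𝒜, ∃ (Q : 𝒜) (q : Q ⟶ M), P Q ∧ Epi q)
    (hZ : ∀ Z : 𝒜, IsZero Z → P Z)
    (hSum : ∀ X Y : 𝒜, P X → P Y → P (X ⊞ Y))
    (hIso : ∀ X Y : 𝒜, (X ≅ Y) → P X → P Y)
    [HasColimitsOfShape ℕ 𝒜] [HasExactColimitsOfShape ℕ 𝒜]
    (G : CochainComplex 𝒜 ℤ) :
    ∃ (Kc : ℕ ⥤ CochainComplex 𝒜 ℤ) (π : ∀ n : ℕ, Kc.obj n ⟶ G.truncLE ((n : ℤ) + 1)),
      (∀ n : ℕ, Kc.map (homOfLE (Nat.le_succ n)) ≫ π (n + 1) ≫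
          G.ιTruncLE (((n + 1 : ℕ) : ℤ) + 1) = π n ≫ G.ιTruncLE ((n : ℤ) + 1)) ∧
      (∀ n : ℕ, QuasiIso (π n) ∧ ∀ i : ℤ, Epi ((π n).f i)) ∧
      (∀ n : ℕ, (Kc.obj n).IsStrictlyLE ((n : ℤ) + 1)) ∧
      (∀ (n : ℕ) (i : ℤ), P ((Kc.obj n).X i)) ∧
      (∀ (n : ℕ) (i : ℤ), ∃ r : (Kc.obj (n + 1)).X i ⟶ (Kc.obj n).X i,
        (Kc.map (homOfLE (Nat.le_succ n))).f i ≫ r = 𝟙 _ ∧
        P (cokernel ((Kc.map (homOfLE (Nat.le_succ n))).f i))) ∧
      ∃ c : colimit Kc ⟶ G, (∀ n : ℕ, colimit.ι Kc n ≫ c = π n ≫ G.ιTruncLE ((n : ℤ) + 1)) ∧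
        QuasiIso c ∧ ∀ i : ℤ, Epi (c.f i) := by
  refine ⟨Kc hP hZ hSum hIso G, π hP hZ hSum hIso G, compat hP hZ hSum hIso G,
    fun n => ⟨(state hP hZ hSum hIso G n).qi, (state hP hZ hSum hIso G n).epi⟩,
    fun n => (state hP hZ hSum hIso G n).hK, fun n i => (state hP hZ hSum hIso G n).hX i,
    fun n i => ?_, ?_⟩
  · obtain ⟨Q, e, hQ, he⟩ := (state hP hZ hSum hIso G n).split hP hZ hSum hIso i
    rw [Kc_map_succ]
    refine ⟨e.hom ≫ biprod.fst, ?_, hIso _ _ (cokernelIsoOfSplit _ e he).symm hQ⟩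
    have h2 := congrArg (fun t => t ≫ biprod.fst) he
    simp only [Category.assoc, biprod.inl_fst] at h2
    exact h2
  · let c : colimit (Kc hP hZ hSum hIso G) ⟶ G :=
      colimit.desc _ (Cocone.mk G (α hP hZ hSum hIso G))
    have hc : ∀ n : ℕ, colimit.ι (Kc hP hZ hSum hIso G) n ≫ c = (α hP hZ hSum hIso G).app n :=
      fun n => colimit.ι_desc _ n
    have hepi : ∀ i : ℤ, ∃ n : ℕ, Epi (((α hP hZ hSum hIso G).app n).f i) := fun i =>
      ⟨i.toNat, epi_α_app_f hP hZ hSum hIso G i i.toNat (by lia)⟩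
    refine ⟨c, hc, ?_, fun i => ?_⟩
    · exact quasiIso_of_isColimit_of_fac (α hP hZ hSum hIso G)
        (fun n => G.truncLE ((n : ℤ) + 1)) (π hP hZ hSum hIso G)
        (fun n => G.ιTruncLE ((n : ℤ) + 1)) (fun n => rfl)
        (fun n => HomologicalComplex.epi_of_epi_f _ (state hP hZ hSum hIso G n).epi)
        (fun n => inferInstanceAs (Mono (HomologicalComplex.ιTruncLE G
          (ComplexShape.embeddingUpIntLE ((n : ℤ) + 1)))))
        (fun n => (state hP hZ hSum hIso G n).qi) hepi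
        (colimit.cocone _) (colimit.isColimit _) c hc
    · obtain ⟨n, hn⟩ := hepi i
      have e : (colimit.ι (Kc hP hZ hSum hIso G) n).f i ≫ c.f i =
          ((α hP hZ hSum hIso G).app n).f i := by
        rw [← HomologicalComplex.comp_f, hc n]
      exact epi_of_epi_fac e

end Groth.Agent.H45
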