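import Groth.Agent.H31.FreeOn
import Groth.Agent.H45.Resolution.System
import Groth.Agent.H45.KFlat.Colimit
import Mathlib.CategoryTheory.Limits.Shapes.CombinedProducts

/-!
# Direct sums of the modules `j_{U!} O_U`
-/

open CategoryTheory Limits Opposite

universe u

namespace Groth.Agent.H45

variable {C : Type u} [SmallCategory C] {J : GrothendieckTopology C} (O : Sheaf J CommRingCat.{u})

/-- A module which is isomorphic to a direct sum of modules of the form `j_{U!} O_U`. -/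
def IsFreeSum (M : ModSite.Mod O) : Prop :=
  ∃ (ι : Type u) (U : ι → C), Nonempty (M ≅ ∐ fun j => ModSite.freeOn O (U j))

variable {O}

lemma IsFreeSum.of_iso {M N : ModSite.Mod O} (e : M ≅ N) (h : IsFreeSum O M) : IsFreeSum O N := by
  obtain ⟨ι, U, ⟨e'⟩⟩ := h
  exact ⟨ι, U, ⟨e.symm ≪≫ e'⟩⟩

lemma isFreeSum_of_isZero {Z : ModSite.Mod O} (hZ : IsZero Z) : IsFreeSum O Z := by
  refine ⟨PEmpty, PEmpty.elim, ⟨hZ.iso ?_⟩⟩
  rw [IsZero.iff_id_eq_zero]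
  exact Sigma.hom_ext _ _ (fun j => j.elim)

lemma IsFreeSum.biprod {M N : ModSite.Mod O} (hM : IsFreeSum O M) (hN : IsFreeSum O N) :
    IsFreeSum O (M ⊞ N) := by
  obtain ⟨ι₁, U₁, ⟨e₁⟩⟩ := hM
  obtain ⟨ι₂, U₂, ⟨e₂⟩⟩ := hN
  refine ⟨ι₁ ⊕ ι₂, Sum.elim U₁ U₂, ⟨?_⟩⟩
  let f₁ : ι₁ → ModSite.Mod O := fun j => ModSite.freeOn O (U₁ j)
  let f₂ : ι₂ → ModSite.Mod O := fun j => ModSite.freeOn O (U₂ j)
  let c₁ : Cofan f₁ := Cofan.mk M (fun j => Sigma.ι f₁ j ≫ e₁.inv)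
  let c₂ : Cofan f₂ := Cofan.mk N (fun j => Sigma.ι f₂ j ≫ e₂.inv)
  have h₁ : IsColimit c₁ := IsColimit.ofIsoColimit (coproductIsCoproduct f₁)
    (Cocone.ext e₁.symm (fun ⟨j⟩ => rfl))
  have h₂ : IsColimit c₂ := IsColimit.ofIsoColimit (coproductIsCoproduct f₂)
    (Cocone.ext e₂.symm (fun ⟨j⟩ => rfl))
  let bc : BinaryCofan c₁.pt c₂.pt := (BinaryBiproduct.bicone M N).toCocone
  have hbc : IsColimit bc := BinaryBiproduct.isColimit M N
  have h := Cofan.combPairIsColimit h₁ h₂ hbc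
  let e : ∀ j : ι₁ ⊕ ι₂, ModSite.freeOn O (Sum.elim U₁ U₂ j) ≅ Sum.elim f₁ f₂ j := fun j =>
    match j with
    | .inl _ => Iso.refl _
    | .inr _ => Iso.refl _
  exact (IsColimit.coconePointUniqueUpToIso h (coproductIsCoproduct (Sum.elim f₁ f₂))) ≪≫
    (Sigma.mapIso e).symm

variable (O) in
/-- Every module is a quotient of a direct sum of modules `j_{U!} O_U`. -/
lemma exists_isFreeSum_epi (M : ModSite.Mod O) :
    ∃ (Q : ModSite.Mod O) (q : Q ⟶ M), IsFreeSum O Q ∧ Epi q := by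
  let ι : Type u := Σ U : C, M.val.obj (op U)
  let f : ι → ModSite.Mod O := fun j => ModSite.freeOn O j.1
  let q : ∐ f ⟶ M := Sigma.desc (fun j => (Groth.Agent.H31.freeOnHomEquiv O j.1 M).symm j.2)
  refine ⟨∐ f, q, ⟨ι, fun j => j.1, ⟨Iso.refl _⟩⟩, ⟨fun {T} h₁ h₂ heq => ?_⟩⟩
  apply SheafOfModules.hom_ext
  apply PresheafOfModules.hom_ext
  intro W
  ext m
  have h := congrArg (fun t => Sigma.ι f ⟨W.unop, m⟩ ≫ t) heq
  simp only [q, colimit.ι_desc_assoc, Cofan.mk_pt, Cofan.mk_ι_app] at h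
  have h' := congrArg (Groth.Agent.H31.freeOnHomEquiv O W.unop T) h
  rw [Groth.Agent.H31.freeOnHomEquiv_naturality, Groth.Agent.H31.freeOnHomEquiv_naturality,
    Equiv.apply_symm_apply] at h'
  exact h'

end Groth.Agent.H45
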