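import Groth.Agent.H31.ExtZeroProj
import Groth.Agent.H45.Resolution.FreeOnClass
import Groth.Agent.H45.KFlat.Bounded
import Groth.Agent.H45.SheafTensor.FlatFiltered

/-!
# K-flat resolutions on a ringed site
-/

open CategoryTheory Limits Opposite

universe u

namespace Groth.Agent.H45

variable {C : Type u} [SmallCategory C] {J : GrothendieckTopology C} {O : Sheaf J CommRingCat.{u}}

/-- The colimit of a sequence of flat modules is flat. -/
theorem isFlat_of_isColimit_nat (D : ℕ ⥤ ModSite.Mod O) (hD : ∀ i, ModSite.IsFlat (D.obj i))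
    (c : Cocone D) (hc : IsColimit c) : ModSite.IsFlat c.pt := by
  rw [isFlat_iff]
  have hpres : PreservesColimit D (ModSite.tensorBi O).flip := by
    apply preservesColimit_of_evaluation
    intro H
    exact preservesColimit_of_natIso _ (flipCompEvaluation (ModSite.tensorBi O) H).symm
  exact preservesFiniteLimits_of_isColimit
    (D ⋙ (ModSite.tensorBi O).flip) (fun i => (hD i).1)
    ((ModSite.tensorBi O).flip.mapCocone c) (isColimitOfPreserves _ hc)

lemma IsFreeSum.isFlat {M : ModSite.Mod O} (h : IsFreeSum O M) : ModSite.IsFlat M := by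
  obtain ⟨ι, U, ⟨e⟩⟩ := h
  exact isFlat_of_iso e.symm (isFlat_of_isColimit_cofan (fun j => ModSite.freeOn O (U j))
    (fun j => Groth.Agent.H31.ExtZero.isFlat_freeOn O (U j)) _ (coproductIsCoproduct _))

variable (O) in
/-- Every complex of modules on a ringed site admits a K-flat resolution with flat terms, by a
termwise epimorphic quasi-isomorphism. -/
theorem exists_isKFlat_resolution (G : CochainComplex (ModSite.Mod O) ℤ) :
    ∃ (K : CochainComplex (ModSite.Mod O) ℤ) (q : K ⟶ G), ModSite.IsKFlat K ∧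
      (∀ n : ℤ, ModSite.IsFlat (K.X n)) ∧ QuasiIso q ∧ ∀ n : ℤ, Epi (q.f n) := by
  obtain ⟨Kc, π, -, -, h3, h4, -, c, -, hqi, hepi⟩ :=
    exists_resolution_system (P := IsFreeSum O) (exists_isFreeSum_epi O)
      (fun Z hZ => isFreeSum_of_isZero hZ) (fun X Y hX hY => hX.biprod hY)
      (fun X Y e hX => hX.of_iso e) G
  refine ⟨colimit Kc, c, ?_, fun i => ?_, hqi, hepi⟩
  · refine isKFlat_of_isColimit_nat Kc (colimit.cocone Kc) (colimit.isColimit Kc) (fun n => ?_)
    have := h3 n
    exact isKFlat_of_isStrictlyLE (Kc.obj n) ((n : ℤ) + 1) (fun i => (h4 n i).isFlat)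
  · exact isFlat_of_isColimit_nat (Kc ⋙ HomologicalComplex.eval _ _ i) (fun n => (h4 n i).isFlat)
      ((HomologicalComplex.eval _ _ i).mapCocone (colimit.cocone Kc))
      (isColimitOfPreserves _ (colimit.isColimit Kc))

end Groth.Agent.H45
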