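import Groth.Agent.H45.KFlat.Symmetry
import Groth.Agent.H45.Resolution.KFlatRes

/-!
# Tensoring with an arbitrary complex preserves quasi-isomorphisms between K-flat complexes
-/

open CategoryTheory Limits HomologicalComplex

universe u

namespace Groth.Agent.H45

variable {C : Type u} [SmallCategory C] {J : GrothendieckTopology C} {O : Sheaf J CommRingCat.{u}}

/-- If `K` is K-flat, `Tot(- ⊗ K)` preserves quasi-isomorphisms. -/
theorem quasiIso_mapBifunctorMap_left {K : CochainComplex (ModSite.Mod O) ℤ}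
    (hK : ModSite.IsKFlat K) {F F' : CochainComplex (ModSite.Mod O) ℤ} (φ : F ⟶ F') [QuasiIso φ] :
    QuasiIso (mapBifunctorMap φ (𝟙 K) (ModSite.tensorBi O) (ComplexShape.up ℤ)) :=
  Groth.Agent.H5.BifunctorSplit.quasiIso_Gmap (ModSite.tensorBi O) K hK φ

/-- A quasi-isomorphism between K-flat complexes stays a quasi-isomorphism after tensoring with
an arbitrary complex. -/
theorem quasiIso_mapBifunctorMap_of_isKFlat {P Q : CochainComplex (ModSite.Mod O) ℤ}
    (hP : ModSite.IsKFlat P) (hQ : ModSite.IsKFlat Q) (α : P ⟶ Q) [QuasiIso α]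
    (F : CochainComplex (ModSite.Mod O) ℤ) :
    QuasiIso (mapBifunctorMap (𝟙 F) α (ModSite.tensorBi O) (ComplexShape.up ℤ)) := by
  obtain ⟨K, q, hK, -, hq, -⟩ := exists_isKFlat_resolution O F
  have htop : QuasiIso (mapBifunctorMap (𝟙 K) α (ModSite.tensorBi O) (ComplexShape.up ℤ)) :=
    quasiIso_mapBifunctorMap_right K (isZero_homology_mapBifunctor_left_of_isKFlat hK) α
  have hleft : QuasiIso (mapBifunctorMap q (𝟙 P) (ModSite.tensorBi O) (ComplexShape.up ℤ)) :=
    quasiIso_mapBifunctorMap_left hP q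
  have hright : QuasiIso (mapBifunctorMap q (𝟙 Q) (ModSite.tensorBi O) (ComplexShape.up ℤ)) :=
    quasiIso_mapBifunctorMap_left hQ q
  have comm : mapBifunctorMap q (𝟙 P) (ModSite.tensorBi O) (ComplexShape.up ℤ) ≫
      mapBifunctorMap (𝟙 F) α (ModSite.tensorBi O) (ComplexShape.up ℤ) =
      mapBifunctorMap (𝟙 K) α (ModSite.tensorBi O) (ComplexShape.up ℤ) ≫
        mapBifunctorMap q (𝟙 Q) (ModSite.tensorBi O) (ComplexShape.up ℤ) :=
    (((ModSite.tensorCx O).map q).naturality α).symm
  have hcomp : QuasiIso (mapBifunctorMap q (𝟙 P) (ModSite.tensorBi O) (ComplexShape.up ℤ) ≫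
      mapBifunctorMap (𝟙 F) α (ModSite.tensorBi O) (ComplexShape.up ℤ)) := by
    rw [comm]
    infer_instance
  exact quasiIso_of_comp_left (mapBifunctorMap q (𝟙 P) (ModSite.tensorBi O) (ComplexShape.up ℤ)) _

end Groth.Agent.H45
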