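import Groth.Agent.H45.Resolution.Step
import Groth.Agent.H45.KFlat.StupidFiltration
import Mathlib.Algebra.Homology.Embedding.ExtendHomology
import Mathlib.Algebra.Homology.Embedding.CochainComplex

/-!
# Relative resolutions of bounded above cochain complexes
-/

open CategoryTheory Limits ZeroObject HomologicalComplex

namespace Groth.Agent.H45

universe v' u'

variable {𝒜 : Type u'} [Category.{v'} 𝒜] [Abelian 𝒜]

/-- A relative resolution of a morphism `g : A ⟶ L` of cochain complexes (bounded above by `b`)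
by objects satisfying `P`. -/
structure BoundedRelRes (P : 𝒜 → Prop) {A L : CochainComplex 𝒜 ℤ} (g : A ⟶ L) (b : ℤ) where
  /-- the resolution -/
  B : CochainComplex 𝒜 ℤ
  hB : B.IsStrictlyLE b
  /-- the inclusion -/
  ι : A ⟶ B
  /-- the quasi-isomorphism -/
  f : B ⟶ L
  fac : ι ≫ f = g
  qi : QuasiIso f
  epi : ∀ n, Epi (f.f n)
  split : ∀ n, ∃ (Q : 𝒜) (e : B.X n ≅ A.X n ⊞ Q), P Q ∧ ι.f n ≫ e.hom = biprod.inl

section

variable {P : 𝒜 → Prop} (hP : ∀ M : 𝒜, ∃ (Q : 𝒜) (q : Q ⟶ M), P Q ∧ Epi q)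
  (hZ : ∀ Z : 𝒜, IsZero Z → P Z)
  {A L : CochainComplex 𝒜 ℤ} (g : A ⟶ L) (b : ℤ) [A.IsStrictlyLE b] [L.IsStrictlyLE b]

lemma isIso_πStupidLE_of_isStrictlyLE (L : CochainComplex 𝒜 ℤ) (b : ℤ) [L.IsStrictlyLE b] :
    IsIso (πStupidLE L b) := by
  have : ∀ n, IsIso ((πStupidLE L b).f n) := by
    intro n
    by_cases hn : n ≤ b
    · exact isIso_πStupidLE_f L b n hn
    · exact ⟨0, (L.isZero_of_isStrictlyLE b n (by lia)).eq_of_src _ _,
        (isZero_stupidTruncLE_X L b n (by lia)).eq_of_src _ _⟩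
  exact HomologicalComplex.Hom.isIso_of_components _

include hP hZ in
theorem nonempty_boundedRelRes : Nonempty (BoundedRelRes P g b) := by
  let e := ComplexShape.embeddingUpIntLE b
  let g' : A.restriction e ⟶ L.restriction e := restrictionMap g e
  let B' : ChainComplex 𝒜 ℕ := RelRes.B hP g'
  let ι' : A.restriction e ⟶ B' := RelRes.ι hP g'
  let f' : B' ⟶ L.restriction e := RelRes.f hP g'
  have hlift : e.HasLift ι' := fun _ hj => hj.false_of_isTruncLE.elim
  let πL : L ⟶ (L.restriction e).extend e := πStupidLE L b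
  have : IsIso πL := isIso_πStupidLE_of_isStrictlyLE L b
  let ι : A ⟶ B'.extend e := e.liftExtend ι' hlift
  let f : B'.extend e ⟶ L := extendMap f' e ≫ inv πL
  have fac : ι ≫ f = g := by
    dsimp only [f]
    rw [← Category.assoc, IsIso.comp_inv_eq]
    apply (e.homEquiv A (L.restriction e)).injective
    apply Subtype.ext
    change e.homRestrict (ι ≫ extendMap f' e) = e.homRestrict (g ≫ πL)
    rw [e.homRestrict_comp_extendMap, e.homRestrict_liftExtend, e.homRestrict_precomp]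
    dsimp only [πL, πStupidLE]
    rw [e.homRestrict_liftExtend, Category.comp_id]
    exact RelRes.ι_f hP g'
  have hqi : QuasiIso f := by
    have : QuasiIso f' := RelRes.quasiIso_f hP g'
    dsimp only [f]
    infer_instance
  have hepi : ∀ n, Epi (f.f n) := by
    intro n
    by_cases hn : n ≤ b
    · obtain ⟨k, hk⟩ : ∃ k : ℕ, e.f k = n :=
        ⟨(b - n).toNat, by simp [e, ComplexShape.embeddingUpIntLE_f]; lia⟩
      have : Epi (f'.f k) := RelRes.epi_f_f hP g' k
      dsimp only [f]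
      rw [HomologicalComplex.comp_f, extendMap_f f' e hk]
      infer_instance
    · exact ⟨fun _ _ _ => (L.isZero_of_isStrictlyLE b n (by lia)).eq_of_src _ _⟩
  have hsplit : ∀ n, ∃ (Q : 𝒜) (e' : (B'.extend e).X n ≅ A.X n ⊞ Q),
      P Q ∧ ι.f n ≫ e'.hom = biprod.inl := by
    intro n
    by_cases hn : n ≤ b
    · obtain ⟨k, hk⟩ : ∃ k : ℕ, e.f k = n :=
        ⟨(b - n).toNat, by simp [e, ComplexShape.embeddingUpIntLE_f]; lia⟩
      refine ⟨RelRes.Qobj hP g' k, B'.extendXIso e hk ≪≫ RelRes.BXIso hP g' k ≪≫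
        biprod.mapIso (A.restrictionXIso e hk) (Iso.refl _), RelRes.Qobj_prop hP g' k, ?_⟩
      dsimp only [ι]
      rw [e.liftExtend_f ι' hlift hk]
      dsimp only [Iso.trans_hom, biprod.mapIso_hom, Iso.refl_hom]
      simp only [Category.assoc, Iso.inv_hom_id_assoc]
      have h1 : ι'.f k ≫ (RelRes.BXIso hP g' k).hom = biprod.inl := RelRes.ι_f_BXIso_hom hP g' k
      rw [reassoc_of% h1, biprod.mapIso_hom, biprod.inl_map, Iso.inv_hom_id_assoc]
    · have hA : IsZero (A.X n) := A.isZero_of_isStrictlyLE b n (by lia)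
      have hB : IsZero ((B'.extend e).X n) := CochainComplex.isZero_of_isStrictlyLE (B'.extend e) b n (by lia)
      have hAQ : IsZero (A.X n ⊞ (0 : 𝒜)) := by
        rw [IsZero.iff_id_eq_zero]
        apply biprod.hom_ext
        · exact hA.eq_of_tgt _ _
        · exact (isZero_zero 𝒜).eq_of_tgt _ _
      exact ⟨0, hB.iso hAQ, hZ _ (isZero_zero 𝒜), hA.eq_of_src _ _⟩
  exact ⟨⟨B'.extend e, inferInstance, ι, f, fac, hqi, hepi, hsplit⟩⟩

end

end Groth.Agent.H45
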