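import Groth.Agent.H45.Resolution.KFlatRes
import Groth.Agent.H45.KFlat.Cone
import Mathlib.Algebra.Homology.HomotopyCategory.Acyclic
import Mathlib.Algebra.Homology.HomotopyCategory.Triangulated
import Mathlib.CategoryTheory.Localization.Triangulated

/-!
# Factorization of a morphism from a K-flat complex through a K-flat resolution
-/

open CategoryTheory Limits Opposite Pretriangulated

universe u

namespace Groth.Agent.H45

section General

variable {𝒜 : Type*} [Category 𝒜] [Abelian 𝒜]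

open CochainComplex HomotopyCategory

/-- Given `a : K ⟶ L` and a quasi-isomorphism `ρ : M ⟶ cone(a)`, there is a morphism
`φ : M⟦-1⟧ ⟶ K` and a quasi-isomorphism `c : cone(φ) ⟶ L` such that `a` is homotopic to
`inr φ ≫ c`. -/
theorem exists_cone_factorization {K L M : CochainComplex 𝒜 ℤ} (a : K ⟶ L)
    (ρ : M ⟶ mappingCone a) (hρ : QuasiIso ρ) :
    ∃ (φ : M⟦(-1 : ℤ)⟧ ⟶ K) (c : mappingCone φ ⟶ L), QuasiIso c ∧
      Nonempty (Homotopy a (mappingCone.inr φ ≫ c)) := by
  let Qh := HomotopyCategory.quotient 𝒜 (ComplexShape.up ℤ)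
  let T₂ := mappingCone.triangleh a
  have hT₂ : T₂ ∈ distTriang _ := mappingCone_triangleh_distinguished a
  have hT₂' : T₂.invRotate ∈ distTriang _ := inv_rot_of_distTriang _ hT₂
  let W := HomotopyCategory.quasiIso 𝒜 (ComplexShape.up ℤ)
  have hW : W.IsCompatibleWithTriangulation := by
    dsimp only [W]
    rw [quasiIso_eq_trW_subcategoryAcyclic]
    infer_instance
  -- the map on the first objects
  let α : Qh.obj (M⟦(-1 : ℤ)⟧) ⟶ T₂.invRotate.obj₁ :=
    ((Qh.commShiftIso (-1 : ℤ)).app M).hom ≫ (Qh.map ρ)⟦(-1 : ℤ)⟧'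
  have hα : W α := by
    have h1 : W (Qh.map ρ) := (quotient_map_mem_quasiIso_iff ρ).2 hρ
    have h2 : W ((Qh.map ρ)⟦(-1 : ℤ)⟧') := (MorphismProperty.IsCompatibleWithShift.iff W _ _).2 h1
    exact (MorphismProperty.cancel_left_of_respectsIso W _ _).2 h2
  obtain ⟨φ, hφ⟩ := Qh.map_surjective (X := M⟦(-1 : ℤ)⟧) (Y := K) (α ≫ T₂.invRotate.mor₁)
  let T₁ := mappingCone.triangleh φ
  have hT₁ : T₁ ∈ distTriang _ := mappingCone_triangleh_distinguished φ
  obtain ⟨c', hc', hc₁, -⟩ := hW.compatible_with_triangulation T₁ T₂.invRotate hT₁ hT₂' α (𝟙 _) hα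
    (W.id_mem _) ((Category.comp_id _).trans hφ)
  obtain ⟨c, hc⟩ := Qh.map_surjective (X := mappingCone φ) (Y := L) c'
  refine ⟨φ, c, ?_, ⟨?_⟩⟩
  · rw [← hc] at hc'
    exact (quotient_map_mem_quasiIso_iff c).1 hc'
  · apply HomotopyCategory.homotopyOfEq
    refine (?_ : Qh.map a = Qh.map (mappingCone.inr φ ≫ c))
    rw [Qh.map_comp, hc]
    exact (Category.id_comp _).symm.trans hc₁.symm

end General

section Site

variable {C : Type u} [SmallCategory C] {J : GrothendieckTopology C} {O : Sheaf J CommRingCat.{u}}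

open CochainComplex

/-- The terms of a mapping cone of a morphism between complexes with flat terms are flat. -/
lemma isFlat_mappingCone_X {K₁ K₂ : CochainComplex (ModSite.Mod O) ℤ} (φ : K₁ ⟶ K₂)
    (h₁ : ∀ n, ModSite.IsFlat (K₁.X n)) (h₂ : ∀ n, ModSite.IsFlat (K₂.X n)) (n : ℤ) :
    ModSite.IsFlat ((mappingCone φ).X n) := by
  let S := (mappingCone.triangleRotateShortComplex φ).map (HomologicalComplex.eval _ _ n)
  have hS : S.ShortExact := (mappingCone.triangleRotateShortComplexSplitting φ n).shortExact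
  exact isFlat_of_shortExact_of_isFlat_outer S hS (h₂ n)
    (isFlat_of_iso (K₁.shiftFunctorObjXIso 1 n (n + 1) rfl).symm (h₁ (n + 1)))

variable (O) in
/-- A morphism from a K-flat complex factors, up to homotopy, through a K-flat complex
quasi-isomorphic to the target. -/
theorem exists_isKFlat_factorization {K L : CochainComplex (ModSite.Mod O) ℤ} (a : K ⟶ L)
    (hK : ModSite.IsKFlat K) :
    ∃ (N : CochainComplex (ModSite.Mod O) ℤ) (b : K ⟶ N) (c : N ⟶ L), ModSite.IsKFlat N ∧
      QuasiIso c ∧ Nonempty (Homotopy a (b ≫ c)) ∧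
      ((∀ n : ℤ, ModSite.IsFlat (K.X n)) → ∀ n : ℤ, ModSite.IsFlat (N.X n)) := by
  obtain ⟨M, ρ, hM, hMfl, hρ, -⟩ := exists_isKFlat_resolution O (mappingCone a)
  obtain ⟨φ, c, hc, hh⟩ := exists_cone_factorization a ρ hρ
  have hM' : ModSite.IsKFlat (M⟦(-1 : ℤ)⟧) := (isKFlat_shift_iff M (-1)).2 hM
  refine ⟨mappingCone φ, mappingCone.inr φ, c, (isKFlat_mappingCone_two_of_three φ).1 hM' hK,
    hc, hh, fun hKfl n => ?_⟩
  exact isFlat_mappingCone_X φ
    (fun n => isFlat_of_iso (M.shiftFunctorObjXIso (-1) n (n + -1) rfl).symm (hMfl _)) hKfl n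

end Site

end Groth.Agent.H45
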