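import Mathlib.Algebra.Homology.Refinements
import Mathlib.Algebra.Homology.QuasiIso
import Mathlib.Algebra.Homology.HomologicalComplexAbelian

/-!
# A lifting criterion for termwise epimorphic quasi-isomorphisms of `ℕ`-indexed chain complexes
-/

open CategoryTheory Limits

namespace Groth.Agent.H45

universe v' u'

variable {𝒜 : Type u'} [Category.{v'} 𝒜] [Abelian 𝒜]

/-- The lifting property of a morphism `φ : K ⟶ L` of chain complexes in degree `j`: every pair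
consisting of `y ∈ L_{j+1}` and of a cycle `z ∈ K_j` such that `d y = φ z` comes (locally) from
an element `x ∈ K_{j+1}`. -/
def LiftingAt {K L : ChainComplex 𝒜 ℕ} (φ : K ⟶ L) (j : ℕ) : Prop :=
  ∀ ⦃T : 𝒜⦄ (y : T ⟶ L.X (j + 1)) (z : T ⟶ K.X j),
    z ≫ K.d j ((ComplexShape.down ℕ).next j) = 0 → y ≫ L.d (j + 1) j = z ≫ φ.f j →
    ∃ (T' : 𝒜) (π : T' ⟶ T) (_ : Epi π) (x : T' ⟶ K.X (j + 1)),
      x ≫ φ.f (j + 1) = π ≫ y ∧ x ≫ K.d (j + 1) j = π ≫ z

variable {K L : ChainComplex 𝒜 ℕ} (φ : K ⟶ L)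

lemma exists_cycle_lift (h0 : Epi (φ.f 0)) (h : ∀ j, LiftingAt φ j) (j : ℕ) ⦃T : 𝒜⦄
    (y : T ⟶ L.X j) (hy : y ≫ L.d j ((ComplexShape.down ℕ).next j) = 0) :
    ∃ (T' : 𝒜) (π : T' ⟶ T) (_ : Epi π) (x : T' ⟶ K.X j),
      x ≫ K.d j ((ComplexShape.down ℕ).next j) = 0 ∧ x ≫ φ.f j = π ≫ y := by
  cases j with
  | zero =>
    obtain ⟨T', π, hπ, x, hx⟩ := surjective_up_to_refinements_of_epi (φ.f 0) y
    refine ⟨T', π, hπ, x, ?_, hx.symm⟩
    rw [K.shape, comp_zero]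
    simp
  | succ j =>
    rw [ChainComplex.next_nat_succ] at hy
    obtain ⟨T', π, hπ, x, hx₁, hx₂⟩ := h j y 0 zero_comp (by rw [hy, zero_comp])
    refine ⟨T', π, hπ, x, ?_, hx₁⟩
    rw [ChainComplex.next_nat_succ, hx₂, comp_zero]

lemma epi_f_of_liftingAt (h0 : Epi (φ.f 0)) (h : ∀ j, LiftingAt φ j) (j : ℕ) : Epi (φ.f j) := by
  cases j with
  | zero => exact h0
  | succ j =>
    rw [epi_iff_surjective_up_to_refinements]
    intro T y
    obtain ⟨T', π, hπ, z, hz₁, hz₂⟩ := exists_cycle_lift φ h0 h j (y ≫ L.d (j + 1) j)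
      (by rw [Category.assoc, L.d_comp_d, comp_zero])
    obtain ⟨T'', π', hπ', x, hx₁, hx₂⟩ := h j (π ≫ y) z hz₁ (by rw [Category.assoc, hz₂])
    exact ⟨T'', π' ≫ π, epi_comp _ _, x, by rw [Category.assoc, hx₁]⟩

lemma quasiIso_of_liftingAt (h0 : Epi (φ.f 0)) (h : ∀ j, LiftingAt φ j) : QuasiIso φ := by
  refine ⟨fun j => ?_⟩
  rw [quasiIsoAt_iff_isIso_homologyMap]
  have hm : Mono (HomologicalComplex.homologyMap φ j) := by
    rw [HomologicalComplex.mono_homologyMap_iff_up_to_refinements φ (j + 1) j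
      ((ComplexShape.down ℕ).next j) (by simp) rfl]
    intro T x₂ hx₂ y₁ hy
    obtain ⟨T', π, hπ, x, _, hx₂'⟩ := h j y₁ x₂ hx₂ hy.symm
    exact ⟨T', π, hπ, x, hx₂'.symm⟩
  have he : Epi (HomologicalComplex.homologyMap φ j) := by
    rw [HomologicalComplex.epi_homologyMap_iff_up_to_refinements φ (j + 1) j
      ((ComplexShape.down ℕ).next j) (by simp) rfl]
    intro T y₂ hy₂
    obtain ⟨T', π, hπ, x, hx₁, hx₂⟩ := exists_cycle_lift φ h0 h j y₂ hy₂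
    exact ⟨T', π, hπ, x, hx₁, 0, by rw [zero_comp, add_zero, hx₂]⟩
  exact isIso_of_mono_of_epi _

end Groth.Agent.H45
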