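import Groth.Agent.H45.Resolution.Lifting
import Mathlib.CategoryTheory.Abelian.Basic
import Mathlib.CategoryTheory.Limits.Shapes.BinaryBiproducts

/-!
# Relative resolutions of `ℕ`-indexed chain complexes by objects of a class `P`

Given a morphism `g : A ⟶ L` of `ℕ`-indexed chain complexes in an abelian category in which every
object is a quotient of an object satisfying `P`, we construct a factorization `A ⟶ B ⟶ L` where
`B_j = A_j ⊞ Q_j` with `P Q_j`, and `B ⟶ L` is a termwise epimorphic quasi-isomorphism.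
-/

open CategoryTheory Limits ZeroObject

namespace Groth.Agent.H45

namespace RelRes

universe v' u'

variable {𝒜 : Type u'} [Category.{v'} 𝒜] [Abelian 𝒜] {P : 𝒜 → Prop}
  (hP : ∀ M : 𝒜, ∃ (Q : 𝒜) (q : Q ⟶ M), P Q ∧ Epi q)

/-- A chosen cover of `M` by an object satisfying `P`. -/
noncomputable def cov (M : 𝒜) : 𝒜 := (hP M).choose

/-- The chosen epimorphism `cov M ⟶ M`. -/
noncomputable def covπ (M : 𝒜) : cov hP M ⟶ M := (hP M).choose_spec.choose

lemma cov_prop (M : 𝒜) : P (cov hP M) := (hP M).choose_spec.choose_spec.1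

instance (M : 𝒜) : Epi (covπ hP M) := (hP M).choose_spec.choose_spec.2

variable {A L : ChainComplex 𝒜 ℕ} (g : A ⟶ L)

/-- The data constructed in degree `j`. -/
structure Stage (P : 𝒜 → Prop) (g : A ⟶ L) (j : ℕ) where
  /-- the new summand in degree `j` -/
  Q : 𝒜
  hQ : P Q
  /-- the term in degree `j - 1` -/
  Xm : 𝒜
  /-- the differential from degree `j` to degree `j - 1` -/
  dm : A.X j ⊞ Q ⟶ Xm
  /-- the map to `L` in degree `j` -/
  f₀ : A.X j ⊞ Q ⟶ L.X j
  hif : biprod.inl ≫ f₀ = g.f j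
  hd : A.d (j + 1) j ≫ biprod.inl ≫ dm = 0

namespace Stage

variable {g} {j : ℕ} (s : Stage P g j)

/-- The fibre product of `L_{j+1}` and of the cycles in degree `j`. -/
noncomputable abbrev W : 𝒜 := pullback (L.d (j + 1) j) (kernel.ι s.dm ≫ s.f₀)

/-- The new summand in degree `j + 1`. -/
noncomputable abbrev Q₁ : 𝒜 := cov hP s.W

/-- The differential from degree `j + 1` to degree `j`. -/
noncomputable def d₁ : A.X (j + 1) ⊞ s.Q₁ hP ⟶ A.X j ⊞ s.Q :=
  biprod.desc (A.d (j + 1) j ≫ biprod.inl)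
    (covπ hP s.W ≫ pullback.snd _ _ ≫ kernel.ι s.dm)

/-- The map to `L` in degree `j + 1`. -/
noncomputable def f₁ : A.X (j + 1) ⊞ s.Q₁ hP ⟶ L.X (j + 1) :=
  biprod.desc (g.f (j + 1)) (covπ hP s.W ≫ pullback.fst _ _)

lemma d₁_dm : s.d₁ hP ≫ s.dm = 0 := by
  apply biprod.hom_ext'
  · simp [d₁, s.hd]
  · simp [d₁]

lemma d₁_f₀ : s.d₁ hP ≫ s.f₀ = s.f₁ hP ≫ L.d (j + 1) j := by
  apply biprod.hom_ext'
  · simp [d₁, f₁, s.hif]
  · simp only [d₁, f₁, biprod.inr_desc_assoc, Category.assoc]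
    rw [pullback.condition]

lemma lifting ⦃T : 𝒜⦄ (y : T ⟶ L.X (j + 1)) (z : T ⟶ A.X j ⊞ s.Q) (hz : z ≫ s.dm = 0)
    (hyz : y ≫ L.d (j + 1) j = z ≫ s.f₀) :
    ∃ (T' : 𝒜) (π : T' ⟶ T) (_ : Epi π) (x : T' ⟶ A.X (j + 1) ⊞ s.Q₁ hP),
      x ≫ s.f₁ hP = π ≫ y ∧ x ≫ s.d₁ hP = π ≫ z := by
  let w : T ⟶ s.W := pullback.lift y (kernel.lift s.dm z hz) (by simp [hyz])
  obtain ⟨T', π, hπ, x, hx⟩ := surjective_up_to_refinements_of_epi (covπ hP s.W) w
  let x' : T' ⟶ s.Q₁ hP := x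
  have hx' : π ≫ w = x' ≫ covπ hP s.W := hx
  refine ⟨T', π, hπ, x' ≫ biprod.inr, ?_, ?_⟩
  · simp only [f₁, Category.assoc, biprod.inr_desc]
    rw [← reassoc_of% hx']
    simp only [w, pullback.lift_fst]
  · simp only [d₁, Category.assoc, biprod.inr_desc]
    rw [← reassoc_of% hx']
    simp only [w, pullback.lift_snd_assoc, kernel.lift_ι]

/-- The next stage. -/
noncomputable def next : Stage P g (j + 1) where
  Q := s.Q₁ hP
  hQ := cov_prop hP _
  Xm := A.X j ⊞ s.Q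
  dm := s.d₁ hP
  f₀ := s.f₁ hP
  hif := by simp [f₁]
  hd := by simp [d₁]

end Stage

/-- The initial stage. -/
noncomputable def stage0 : Stage P g 0 where
  Q := cov hP (L.X 0)
  hQ := cov_prop hP _
  Xm := 0
  dm := 0
  f₀ := biprod.desc (g.f 0) (covπ hP _)
  hif := by simp
  hd := by simp

/-- The sequence of stages. -/
noncomputable def stage : ∀ j : ℕ, Stage P g j
  | 0 => stage0 hP g
  | j + 1 => (stage j).next hP

/-- The new summands. -/
noncomputable def Qobj (j : ℕ) : 𝒜 := (stage hP g j).Q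

lemma Qobj_prop (j : ℕ) : P (Qobj hP g j) := (stage hP g j).hQ

/-- The terms of the resolution. -/
noncomputable abbrev Bobj (j : ℕ) : 𝒜 := A.X j ⊞ Qobj hP g j

/-- The differentials of the resolution. -/
noncomputable def Bd (j : ℕ) : Bobj hP g (j + 1) ⟶ Bobj hP g j := (stage hP g j).d₁ hP

lemma Bd_sq (j : ℕ) : Bd hP g (j + 1) ≫ Bd hP g j = 0 := (stage hP g (j + 1)).d₁_dm hP

/-- The resolution, as a chain complex. -/
noncomputable def B : ChainComplex 𝒜 ℕ := ChainComplex.of (Bobj hP g) (Bd hP g) (Bd_sq hP g)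

lemma B_d (j : ℕ) : (B hP g).d (j + 1) j = Bd hP g j := ChainComplex.of_d _ _ j

/-- The components of the map to `L`. -/
noncomputable def Bf (j : ℕ) : Bobj hP g j ⟶ L.X j := (stage hP g j).f₀

lemma Bf_succ (j : ℕ) : Bf hP g (j + 1) = (stage hP g j).f₁ hP := rfl

lemma inl_Bf (j : ℕ) : biprod.inl ≫ Bf hP g j = g.f j := (stage hP g j).hif

lemma Bd_Bf (j : ℕ) : Bd hP g j ≫ Bf hP g j = Bf hP g (j + 1) ≫ L.d (j + 1) j :=
  (stage hP g j).d₁_f₀ hP

lemma inl_Bd (j : ℕ) :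
    (biprod.inl : A.X (j + 1) ⟶ Bobj hP g (j + 1)) ≫ Bd hP g j = A.d (j + 1) j ≫ biprod.inl :=
  biprod.inl_desc _ _

/-- The inclusion of `A` in the resolution. -/
noncomputable def ι : A ⟶ B hP g :=
  ChainComplex.ofHom (fun _ => biprod.inl) (fun j => by
    rw [B_d]
    exact inl_Bd hP g j)

/-- The map from the resolution to `L`. -/
noncomputable def f : B hP g ⟶ L :=
  ChainComplex.ofHom (fun j => Bf hP g j) (fun j => by
    rw [B_d]
    exact (Bd_Bf hP g j).symm)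

@[reassoc (attr := simp)]
lemma ι_f : ι hP g ≫ f hP g = g := by
  ext j
  exact inl_Bf hP g j

/-- The terms of the resolution (tautological isomorphism). -/
noncomputable def BXIso (j : ℕ) : (B hP g).X j ≅ A.X j ⊞ Qobj hP g j := Iso.refl _

lemma ι_f_BXIso_hom (j : ℕ) : (ι hP g).f j ≫ (BXIso hP g j).hom = biprod.inl :=
  Category.comp_id _

lemma ι_f_fst (j : ℕ) : (ι hP g).f j ≫ (biprod.fst : Bobj hP g j ⟶ A.X j) = 𝟙 _ :=
  biprod.inl_fst

instance epi_f_zero : Epi ((f hP g).f 0) := by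
  have e : (biprod.inr : cov hP (L.X 0) ⟶ A.X 0 ⊞ cov hP (L.X 0)) ≫
      biprod.desc (g.f 0) (covπ hP (L.X 0)) = covπ hP (L.X 0) := biprod.inr_desc _ _
  exact epi_of_epi_fac e

lemma liftingAt_f (j : ℕ) : LiftingAt (f hP g) j := by
  intro T y z hz hyz
  have hz' : z ≫ (stage hP g j).dm = 0 := by
    cases j with
    | zero => exact (isZero_zero 𝒜).eq_of_tgt _ _
    | succ j =>
      rw [ChainComplex.next_nat_succ, B_d] at hz
      exact hz
  obtain ⟨T', π, hπ, x, hx₁, hx₂⟩ := (stage hP g j).lifting hP y z hz' hyz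
  refine ⟨T', π, hπ, x, hx₁, ?_⟩
  rw [B_d]
  exact hx₂

instance quasiIso_f : QuasiIso (f hP g) :=
  quasiIso_of_liftingAt _ inferInstance (liftingAt_f hP g)

instance epi_f_f (j : ℕ) : Epi ((f hP g).f j) :=
  epi_f_of_liftingAt _ inferInstance (liftingAt_f hP g) j

end RelRes

end Groth.Agent.H45
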